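import Cfsg.Agent.OddHalf.D9.MultOf
import Cfsg.Agent.KFacts.OddLift.SpSix
import Cfsg.Agent.KFacts.OddLift.OEight
import Cfsg.Agent.KFacts.OddLift.USixL.Diff
import Cfsg.Agent.OddHalf.D9.Plug.Base
import Cfsg.Agent.KFacts.MulSpor.HS
import Cfsg.Agent.KFacts.MulEven.Fi22
import Cfsg.Agent.KFacts.MulCo.CoZero
import Cfsg.Agent.KFacts.MulSpor.TwoAnRow
import Cfsg.Agent.KFacts.MulY.Tower
import Cfsg.Agent.MonsterN.CoverB
import Cfsg.Agent.KFacts.OddLift.GTwoFour
import Cfsg.Agent.KFacts.MulP.MTwelve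
import Cfsg.Agent.KFacts.MulP.JTwo
import Cfsg.Agent.KFacts.MulP.MTwentyTwo
import Cfsg.Agent.OddHalf.D9.FFour.MultTwo
import Cfsg.Agent.KFacts.Mult.TwESixTwo

-- merged: Cfsg.Agent.KFacts.OddLift.RowsTwo
section

/-!
# The rows `Sp₆(2)` and `Ω₈⁺(2)` of the multiplier table `D9.MultOf.TwoRows`
-/

set_option autoImplicit false

namespace Cfsg.Agent.KFacts.OddLift.RowsTwo

open Subgroup Cfsg.Agent.OddHalf.D9.Cut Cfsg.Agent.OddHalf.D9.MultOf

universe u

/-- a 2-group of order at most 2 -/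
theorem dvd_two {K : Type u} [Group K] [Finite K] {Z : Subgroup K} (h : Nat.card Z ≤ 2) : Nat.card Z ∣ 2 := by
  have h1 := Nat.card_pos (α := Z)
  rcases (show Nat.card Z = 1 ∨ Nat.card Z = 2 by omega) with h2 | h2 <;> rw [h2]
  exact one_dvd 2

theorem sp62 : Bd.{u} 2 (fun X _ => XSp62 X) := by
  rintro K _ hK ⟨F, iF, iF2, hF, ⟨e⟩⟩
  have := hK.1
  exact dvd_two (SpSix.card_le hK.2.1.1.commutator_eq_top (center K) le_rfl hK.2.2.1 hF e)

theorem o82 : Bd.{u} 2 (fun X _ => XO82 X) := by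
  rintro K _ hK ⟨F, iF, iF2, hF, ⟨e⟩⟩
  have := hK.1
  have := hK.2.2.2
  exact dvd_two (OEight.card_le_two hK.2.1.1.commutator_eq_top (center K) le_rfl hK.2.2.1 hF e)

end Cfsg.Agent.KFacts.OddLift.RowsTwo

end

-- merged: Cfsg.Agent.KFacts.OddLift.USix
section

/-!
# The 2-part of the multiplier of `PSU₆(2)`: elementary abelian of order at most 4

Let `f : K → PSU₆(2)` be surjective, `K` finite and perfect, `ker f` a central 2-group. The good lifts `t` of the
transvections (`USixL.exists_TL`) form a map on the isotropic vectors whose third difference `USixL.dd t` on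
triples spanning totally isotropic planes is `SU₆(2)`-invariant with values in `ker f`; the values generate `ker f`
(`USixL.ker_eq`) and there are three of them, with product 1.

* `card_le`: `ker f` has exponent 2 and order at most 4;
* `card_le_two`: if it is cyclic then its order is at most 2.
-/

set_option autoImplicit false

namespace Cfsg.Agent.KFacts.OddLift.USix

open Subgroup Cfsg Cfsg.Agent.SporadicStructure.UnitTwo Cfsg.Agent.KFacts.OddLift.USixL

universe u v

/-- **The 2-part of the multiplier of `PSU₆(2)`.** -/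
theorem main {F : Type v} [Field F] [Fintype F] (hF : Fintype.card F = 2 ^ 2) {K : Type u} [Group K] [Finite K]
    (hK : commutator K = ⊤) {f : K →* PSU 6 F 2} (hf : Function.Surjective f) (hZ : f.ker ≤ center K)
    (h2 : IsPGroup 2 f.ker) : (∀ z ∈ f.ker, z * z = 1) ∧ Nat.card f.ker ≤ 4 := by
  obtain ⟨t, h⟩ := exists_TL (hF := hF) hf hZ h2
  obtain ⟨ω, hω⟩ := exists_omega hF
  have hω0 := omega_ne_zero hω
  have p := tri_eee hF hω
  have q : ∀ c : F, c ≠ 0 → Tri (ee 0) (ee 1) (c • ee 2) := fun c hc => by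
    have := p.smul hF one_ne_zero one_ne_zero hc
    rwa [one_smul, one_smul] at this
  have s1 := dd_sq h p
  have s2 := dd_sq h (q ω hω0)
  have s3 := dd_sq h (q _ (pow_ne_zero 2 hω0))
  have h3 : dd t (ee 0) (ee 1) (ee 2) * dd t (ee 0) (ee 1) (ω • ee 2) = dd t (ee 0) (ee 1) (ω ^ 2 • ee 2) :=
    mul_right_cancel ((dd_three h p hω).trans s3.symm)
  have h4 := mem_center_iff.1 (hZ (dd_ker h p)) (dd t (ee 0) (ee 1) (ω • ee 2))
  have key := Frat.card_le_four_of_gen s1 s2 h3 (h4.trans h3)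
    (S := {x | ∃ u v w, Tri u v w ∧ x = dd t u v w}) (by
      rintro _ ⟨u, v, w, p', rfl⟩
      exact Or.inr (dd_cases h hf hZ hω p'))
  rw [ker_eq hK hf hZ h2 h]
  exact key

/-- **The 2-part of the multiplier of `PSU₆(2)`**, for central quotients: exponent 2, order at most 4. -/
theorem card_le {K : Type u} [Group K] [Finite K] (hK : commutator K = ⊤) (Z : Subgroup K) [Z.Normal]
    (hZ : Z ≤ center K) (h2 : IsPGroup 2 Z) {F : Type v} [Field F] [Fintype F] (hF : Fintype.card F = 4)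
    (e : K ⧸ Z ≃* PSU 6 F 2) : (∀ z ∈ Z, z * z = 1) ∧ Nat.card Z ≤ 4 := by
  let f : K →* PSU 6 F 2 := e.toMonoidHom.comp (QuotientGroup.mk' Z)
  have hker : f.ker = Z := by
    ext x
    rw [MonoidHom.mem_ker]
    show e (QuotientGroup.mk' Z x) = 1 ↔ _
    rw [map_eq_one_iff e e.injective]
    exact QuotientGroup.eq_one_iff x
  have h := main (f := f) (by rw [hF]; norm_num) hK (e.surjective.comp (QuotientGroup.mk'_surjective _))
    (by rw [hker]; exact hZ) (by rw [hker]; exact h2)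
  rwa [hker] at h

/-- The cyclic case. -/
theorem card_le_two {K : Type u} [Group K] [Finite K] (hK : commutator K = ⊤) (Z : Subgroup K) [Z.Normal]
    (hZ : Z ≤ center K) (h2 : IsPGroup 2 Z) [IsCyclic Z] {F : Type v} [Field F] [Fintype F]
    (hF : Fintype.card F = 4) (e : K ⧸ Z ≃* PSU 6 F 2) : Nat.card Z ≤ 2 :=
  Frat.card_le_two_of_cyclic fun z => Subtype.ext ((card_le hK Z hZ h2 hF e).1 z z.2)

end Cfsg.Agent.KFacts.OddLift.USix

end

-- merged: Cfsg.Agent.KFacts.OddLift.RowUSix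
section

/-!
# The row `U₆(2)` of the multiplier table `D9.MultOf.TwoRows`
-/

set_option autoImplicit false

namespace Cfsg.Agent.KFacts.OddLift.RowUSix

open Subgroup Cfsg.Agent.OddHalf.D9.Cut Cfsg.Agent.OddHalf.D9.MultOf

universe u

theorem u62 : Bd.{u} 2 (fun X _ => XU62 X) := by
  rintro K _ hK ⟨F, iF, iF2, hF, ⟨e⟩⟩
  have := hK.1
  have := hK.2.2.2
  have h1 := USix.card_le_two hK.2.1.1.commutator_eq_top (center K) le_rfl hK.2.2.1 hF e
  have h2 := Nat.card_pos (α := center K)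
  rcases (show Nat.card (center K) = 1 ∨ Nat.card (center K) = 2 by omega) with h3 | h3 <;> rw [h3]
  exact one_dvd 2

end Cfsg.Agent.KFacts.OddLift.RowUSix

end

-- merged: Cfsg.Agent.OddHalf.D9.Plug.HS
section

/-!
# D9, plug: `HS`
-/

set_option autoImplicit false

namespace Cfsg.Agent.OddHalf.D9.Plug.HS

open Subgroup Cfsg Cfsg.Agent.OddHalf.D9.Cut Cfsg.Agent.OddHalf.D9.MultOf Cfsg.Agent.OddHalf.D9.Plug.Base
open Cfsg.Agent.KFacts.MulDef Cfsg.Agent.KFacts.MulBound

universe u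

/-- field of `TwoRows` -/
theorem field : Bd.{u} 2 (fun X _ => Spor.IsoHS X) :=
  Bd.of_oneCover fun _ _ ⟨e⟩ => Cfsg.Agent.KFacts.MulSpor.HS.oneCover_of_equiv e

end Cfsg.Agent.OddHalf.D9.Plug.HS

end

-- merged: Cfsg.Agent.OddHalf.D9.Plug.Fi22
section

/-!
# D9, plug: `Fi22`
-/

set_option autoImplicit false

namespace Cfsg.Agent.OddHalf.D9.Plug.Fi22

open Subgroup Cfsg Cfsg.Agent.OddHalf.D9.Cut Cfsg.Agent.OddHalf.D9.MultOf Cfsg.Agent.OddHalf.D9.Plug.Base
open Cfsg.Agent.KFacts.MulDef Cfsg.Agent.KFacts.MulBound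

universe u

/-- field of `TwoRows` -/
theorem field : Bd.{u} 2 (fun X _ => Spor.IsoFi22 X) :=
  Bd.of_oneCover fun _ _ ⟨e⟩ => Cfsg.Agent.KFacts.MulBaer.OneCover.congr
    Cfsg.Agent.KFacts.MulEven.Fi22.oneCover e.symm

end Cfsg.Agent.OddHalf.D9.Plug.Fi22

end

-- merged: Cfsg.Agent.OddHalf.D9.Plug.Co1
section

/-!
# D9, plug: `Co1`
-/

set_option autoImplicit false

namespace Cfsg.Agent.OddHalf.D9.Plug.Co1

open Subgroup Cfsg Cfsg.Agent.OddHalf.D9.Cut Cfsg.Agent.OddHalf.D9.MultOf Cfsg.Agent.OddHalf.D9.Plug.Base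
open Cfsg.Agent.KFacts.MulDef Cfsg.Agent.KFacts.MulBound

universe u

/-- field of `TwoRows` -/
theorem field : Bd.{u} 2 (fun X _ => Spor.IsoCo1 X) :=
  Bd.of_oneCover fun _ _ ⟨e⟩ => Cfsg.Agent.KFacts.MulBaer.OneCover.congr
    (Cfsg.Agent.KFacts.MulCo.CoZero.oneCover Cfsg.Agent.KFacts.MulSpor.TwoAnRow.noDouble_m24) e.symm

end Cfsg.Agent.OddHalf.D9.Plug.Co1

end

-- merged: Cfsg.Agent.KFacts.MulY.B
section

/-!
# The 2-part of the multiplier of the Baby Monster has order at most two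

* `exists_lifts'`: lifts of elements with `BRels e b z₀` through a central extension by a group of order two.
* `no_tower`: there are no perfect central extensions `L → M → Spor.BabyMonster` with both kernels of order two.
* `not_four_dvd`: a central subgroup `Z` of the finite perfect group `K` with `K / Z ≃* Spor.BabyMonster` has order not
  divisible by four.
* `card_center`: a perfect group with centre a non-trivial 2-group and central quotient `Spor.BabyMonster` has centre of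
  order two.
-/

set_option autoImplicit false

namespace Cfsg.Agent.KFacts.MulY.B

open Cfsg Cfsg.Agent.TwoESix.Cox10 Cfsg.Agent.TwoESix.Lift Cfsg.Agent.R01.Lifts Cfsg.Agent.MonsterN.CoverB
open Cfsg.Agent.KFacts.MulDef
open scoped commutatorElement

universe u

theorem ext_of_dbl {L X : Type*} [Group L] [Group X] {π : L →* X} {c : L} (h : Dbl π c) : Ext π c where
  surj := h.surj
  zz := h.sq
  zne := h.ne
  ker := h.ker
  comm := fun x => (h.cen x).symm

section Lift

variable {M E : Type*} [Group M] [Group E] {π : M →* E} {z : M}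

/-- **Lifts of the eleven nodes**, the ninth power of `W213` arbitrary. -/
theorem exists_lifts' (h : Ext π z) {e : Fin 10 → E} {b z₀ : E} (he : BRels e b z₀) :
    ∃ (m : Fin 10 → M) (b' ζ : M), (∀ i, π (m i) = e i) ∧ π b' = b ∧ BRels m b' ζ ∧ π ζ = z₀ := by
  obtain ⟨m, hm, hl, hsp⟩ := exists_cox' h he.lift he.spider he.e231
  have hsq := fun i => sq hl i
  have esq := fun i => sq he.lift i
  -- the lift of `b`
  have hbe : e 0 * b * e 0 = b * e 0 * b := by
    have h1 : (b * e 0 * b) * (e 0 * b * e 0) = 1 := by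
      rw [← he.b0]; simp only [pow_succ, pow_zero, one_mul, mul_assoc]
    have ib : b⁻¹ = b := inv_eq_of_mul_eq_one_left he.sqb
    have ie : (e 0)⁻¹ = e 0 := inv_eq_of_mul_eq_one_left (esq 0)
    rw [eq_inv_of_mul_eq_one_right h1]
    simp only [mul_inv_rev, ib, ie, mul_assoc]
  obtain ⟨b', hb', hbb⟩ := exists_braid h hbe (m 0) (hm 0)
  have hconj : (m 0 * b') * m 0 * (m 0 * b')⁻¹ = b' := conj_braid hbb
  have hsqb : b' * b' = 1 := by
    calc b' * b' = ((m 0 * b') * m 0 * (m 0 * b')⁻¹) * ((m 0 * b') * m 0 * (m 0 * b')⁻¹) := by rw [hconj]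
      _ = (m 0 * b') * (m 0 * m 0) * (m 0 * b')⁻¹ := by group
      _ = 1 := by rw [hsq 0, mul_one, mul_inv_cancel]
  have hb0 : (b' * m 0) ^ 3 = 1 := by
    calc (b' * m 0) ^ 3 = (b' * m 0 * b') * (m 0 * b' * m 0) := by
          simp only [pow_succ, pow_zero, one_mul, mul_assoc]
      _ = (m 0 * b' * m 0) * (m 0 * b' * m 0) := by rw [hbb]
      _ = m 0 * b' * (m 0 * m 0) * b' * m 0 := by group
      _ = m 0 * (b' * b') * m 0 := by rw [hsq 0]; group
      _ = 1 := by rw [hsqb, mul_one, hsq 0]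
  have hcomm2 : ∀ i : Fin 10, i ≠ 0 → i ≠ 1 → Commute b' (m i) := by
    intro i h0 h1
    have hl2 : lab i 0 = 2 := by
      revert i; decide
    have h2 : Commute (m i) (m 0) := comm_of hl hl2
    have h3 := comm_conj h (g := m 0 * b') h2 (by
      rw [map_mul, hm, hm, hb']
      exact (comm_of he.lift hl2).symm.mul_left (he.bc i h0))
    rw [hconj] at h3
    exact h3.symm
  have hcomm1 : Commute b' (m 1) := by
    have h3 := comm_conj h (g := m 2 * m 1) (hcomm2 2 (by decide) (by decide)) (by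
      rw [map_mul, hm, hm, hb']
      exact Commute.mul_left (Commute.symm (he.bc 2 (by decide))) (Commute.symm (he.bc 1 (by decide))))
    rw [conj_braid (braid hl (i := 2) (j := 1) (by decide))] at h3
    exact h3
  have hbc : ∀ i, i ≠ 0 → b' * m i = m i * b' := by
    intro i hi
    by_cases h1 : i = 1
    · subst h1; exact hcomm1
    · exact hcomm2 i hi h1
  -- the signs
  have h231 : ev m W231 ^ 9 = 1 ∨ ev m W231 ^ 9 = z := by
    apply (h.ker _).1
    rw [map_pow, ev_map, ← he.e231]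
    congr 2
    funext i; exact hm i
  have l2 : W231.length = 7 := rfl
  have hm' : ∀ i, π (m i * z) = e i := fun i => by rw [map_mul, h.mapz, mul_one]; exact hm i
  have hbz : π (b' * z) = b := by rw [map_mul, h.mapz, mul_one]; exact hb'
  rcases h231 with h2 | h2
  · refine ⟨m, b', ev m W213 ^ 9, hm, hb', ⟨hl, hsp, h2, rfl, hsqb, hb0, hbc⟩, ?_⟩
    rw [map_pow, ev_map, ← he.e213]
    congr 2
    funext i; exact hm i
  · refine ⟨fun i => m i * z, b' * z, ev (fun i => m i * z) W213 ^ 9, hm', hbz,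
      ⟨lift_mul_z h hl, spider_mul_z h hsp, ?_, rfl, ?_, ?_, ?_⟩, ?_⟩
    · rw [ev7_mul_z h m l2, h2, h.zz]
    · rw [mul_z_mul h, hsqb]
    · show (b' * z * (m 0 * z)) ^ 3 = 1
      rw [mul_z_mul h, hb0]
    · intro i hi
      show b' * z * (m i * z) = m i * z * (b' * z)
      rw [mul_z_mul h, mul_z_mul h, hbc i hi]
    · rw [map_pow, ev_map, ← he.e213]
      congr 2
      funext i; exact hm' i

end Lift

/-- **No tower of two perfect double covers** above the Baby Monster. -/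
theorem no_tower {M L : Type*} [Group M] [Group L] {π : M →* Spor.BabyMonster} {z : M} (h : Ext π z)
    (hperf : commutator M = ⊤) {ρ : L →* M} {c : L} (hρ : Ext ρ c) (hL : commutator L = ⊤) : False := by
  obtain ⟨m, b, hm, hb, hr, htop⟩ := exists_nodes h hperf
  obtain ⟨n, b', ζ, hn, hb', hr', hζ⟩ := exists_lifts' hρ hr
  -- the lifts generate
  let H : Subgroup L := Subgroup.closure (insert b' (Set.range n))
  have hmem : ∀ x : L, ∃ y ∈ H, ∃ k : L, (k = 1 ∨ k = c) ∧ x = y * k := by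
    intro x
    have h1 : ρ x ∈ Subgroup.map ρ H := by
      rw [MonoidHom.map_closure]
      have : insert b (Set.range m) ⊆ ρ '' insert b' (Set.range n) := by
        rintro x (rfl | ⟨y, rfl⟩)
        · exact ⟨b', Set.mem_insert _ _, hb'⟩
        · exact ⟨n y, Set.mem_insert_of_mem _ ⟨y, rfl⟩, hn y⟩
      exact Subgroup.closure_mono this (htop ▸ Subgroup.mem_top _)
    obtain ⟨y, hy, hxy⟩ := h1
    rcases hρ.map_eq.1 hxy.symm with h2 | h2
    · exact ⟨y, hy, 1, Or.inl rfl, by rw [h2, mul_one]⟩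
    · exact ⟨y, hy, c, Or.inr rfl, h2⟩
  have hH : H = ⊤ := by
    rw [eq_top_iff, ← hL, commutator_def, Subgroup.commutator_le]
    intro x _ y _
    obtain ⟨x', hx, k, hk, rfl⟩ := hmem x
    obtain ⟨y', hy, l, hl, rfl⟩ := hmem y
    have ck : ∀ k : L, (k = 1 ∨ k = c) → ∀ g : L, g * k = k * g := by
      rintro k (rfl | rfl) g
      · rw [mul_one, one_mul]
      · exact hρ.comm g
    have e : ⁅x' * k, y' * l⁆ = ⁅x', y'⁆ := by
      rw [commutatorElement_def, commutatorElement_def]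
      have c1 := ck k hk
      have c2 := ck l hl
      calc x' * k * (y' * l) * (x' * k)⁻¹ * (y' * l)⁻¹
          = x' * (k * y') * l * k⁻¹ * x'⁻¹ * (y' * l)⁻¹ := by group
        _ = x' * (y' * k) * l * k⁻¹ * x'⁻¹ * (y' * l)⁻¹ := by rw [c1]
        _ = x' * y' * (k * l) * k⁻¹ * x'⁻¹ * (y' * l)⁻¹ := by group
        _ = x' * y' * (l * k) * k⁻¹ * x'⁻¹ * (y' * l)⁻¹ := by rw [c2 k]
        _ = x' * y' * (l * x'⁻¹) * (y' * l)⁻¹ := by group
        _ = x' * y' * (x'⁻¹ * l) * (y' * l)⁻¹ := by rw [c2 x'⁻¹]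
        _ = _ := by group
    rw [e]
    exact H.mul_mem (H.mul_mem (H.mul_mem hx hy) (H.inv_mem hx)) (H.inv_mem hy)
  have hcen : ∀ g : L, Commute g ζ := hr'.z_central hH
  -- the quotient by `ζ`
  have hN : (Subgroup.zpowers ζ).Normal := by
    constructor
    intro x hx g
    obtain ⟨k, rfl⟩ := Subgroup.mem_zpowers_iff.1 hx
    rw [((hcen g).zpow_right k).eq, mul_inv_cancel_right]
    exact hx
  let q := QuotientGroup.mk' (Subgroup.zpowers ζ)
  have hq1 : q ζ = 1 := (QuotientGroup.eq_one_iff ζ).2 (Subgroup.mem_zpowers ζ)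
  have hr1 : BRels (fun i => q (n i)) (q b') 1 := by
    have := hr'.map q
    rwa [hq1] at this
  obtain ⟨σ, hσb, hσ⟩ := hr1.exists_hom
  have hπζ : π (ρ ζ) = 1 := by
    rw [hζ]
    exact h.mapz
  let τ : L ⧸ Subgroup.zpowers ζ →* Spor.BabyMonster :=
    QuotientGroup.lift (Subgroup.zpowers ζ) (π.comp ρ) (by
      rw [Subgroup.zpowers_le]
      exact hπζ)
  have hτ : ∀ x, τ (q x) = π (ρ x) := fun _ => rfl
  -- `σ` is surjective and `τ` is a left inverse
  have hσs : ∀ x : L, ∃ y, σ y = q x := by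
    intro x
    have h1 : H ≤ σ.range.comap q := by
      refine (Subgroup.closure_le _).2 ?_
      rintro y (rfl | ⟨i, rfl⟩)
      · exact ⟨b1, hσb⟩
      · exact ⟨e0 i, hσ i⟩
    have h2 := h1 (hH ▸ Subgroup.mem_top x)
    exact h2
  have hτσ : τ.comp σ = MonoidHom.id _ := by
    apply hom_ext
    · show τ (σ b1) = b1
      rw [hσb, hτ, hb', hb]
    · intro i
      show τ (σ (e0 i)) = e0 i
      rw [hσ, hτ, hn, hm]
  -- the kernel of `L → B` is `⟨ζ⟩`
  obtain ⟨y, hy⟩ := hσs c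
  have h1 : τ (σ y) = y := DFunLike.congr_fun hτσ y
  rw [hy, hτ, hρ.mapz, map_one] at h1
  rw [← h1, map_one] at hy
  have h2 : c ∈ Subgroup.zpowers ζ := (QuotientGroup.eq_one_iff c).1 hy.symm
  obtain ⟨k, hk⟩ := Subgroup.mem_zpowers_iff.1 h2
  rcases Int.even_or_odd' k with ⟨j, rfl | rfl⟩
  · rw [zpow_mul, zpow_ofNat, pow_two, hr'.zz, one_zpow] at hk
    exact hρ.zne hk.symm
  · rw [zpow_add, zpow_mul, zpow_ofNat, pow_two, hr'.zz, one_zpow, one_mul, zpow_one] at hk
    have h3 : ρ ζ = 1 := by rw [hk]; exact hρ.mapz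
    rw [hζ] at h3
    exact h.zne h3

/-- A central subgroup `Z` of the finite perfect group `K` with `K / Z ≃* Spor.BabyMonster` has order not divisible by
four. -/
theorem not_four_dvd {K : Type u} [Group K] [Finite K] (hK : commutator K = ⊤) {f : K →* Spor.BabyMonster}
    (hf : Function.Surjective f) (hZ : f.ker ≤ Subgroup.center K) : ¬ 4 ∣ Nat.card f.ker := by
  intro h4
  obtain ⟨L, M, _, _, _, π, z, ρ, c, h1, h2⟩ := Tower.exists_tower hK hf hZ h4
  exact no_tower (ext_of_dbl h1) h1.perf (ext_of_dbl h2) h2.perf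

/-- **The 2-part of the multiplier of the Baby Monster**: a finite perfect group with centre a non-trivial 2-group and
central quotient `Spor.BabyMonster` has centre of order two. -/
theorem card_center {K : Type u} [Group K] [Finite K] (hK : commutator K = ⊤)
    (hp : IsPGroup 2 ↥(Subgroup.center K)) (hne : Subgroup.center K ≠ ⊥)
    (e : K ⧸ Subgroup.center K ≃* Spor.BabyMonster) : Nat.card ↥(Subgroup.center K) = 2 := by
  refine Tower.card_eq_two hp hne fun h4 => ?_
  have hk := Tower.ker_equiv e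
  exact not_four_dvd hK (f := e.toMonoidHom.comp (QuotientGroup.mk' (Subgroup.center K)))
    (e.surjective.comp (QuotientGroup.mk'_surjective _)) hk.le (by rw [hk]; exact h4)

end Cfsg.Agent.KFacts.MulY.B

end

-- merged: Cfsg.Agent.OddHalf.D9.Plug.Baby
section

/-!
# D9, plug: the Baby Monster
-/

set_option autoImplicit false

namespace Cfsg.Agent.OddHalf.D9.Plug.Baby

open Subgroup Cfsg Cfsg.Agent.OddHalf.D9.Cut Cfsg.Agent.OddHalf.D9.MultOf Cfsg.Agent.OddHalf.D9.Plug.Base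
open Cfsg.Agent.KFacts.MulDef Cfsg.Agent.KFacts.MulBound

universe u

/-- field of `TwoRows` -/
theorem field : Bd.{u} 2 (fun X _ => Spor.IsoB X) := by
  rintro K _ hK ⟨e⟩
  have := hK.1
  have h1 := Cfsg.Agent.KFacts.MulY.B.not_four_dvd hK.2.1.1.commutator_eq_top (toX_surj e) (toX_ker e).le
  rw [toX_ker] at h1
  exact dvd_two hK h1

end Cfsg.Agent.OddHalf.D9.Plug.Baby

end

-- merged: Cfsg.Agent.OddHalf.D9.MultCov
section

/-!
# D9: multiplier rows from odd lifts; the rows `Suz` and `G₂(4)`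

`Bd.of_cov`: `Nat.card π.ker ≤ 2 ^ k` for every `Cov π` over `X` of type `P` gives `Bd (2 ^ k) P`.
-/

set_option autoImplicit false
set_option linter.style.haveILetI false

namespace Cfsg.Agent.OddHalf.D9.MultCov

open Subgroup Cfsg Cfsg.Agent.OddHalf.D9.Cut Cfsg.Agent.OddHalf.D9.MultOf
open Cfsg.Agent.KFacts.OddLift.Basic Cfsg.Agent.KFacts.OddLift

universe u

/-- the quotient map by the centre of a quasisimple group with centre a 2-group -/
theorem cov_of {K : Type u} [Group K] (h : QsCyc K) : Cov (QuotientGroup.mk' (center K)) where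
  surj := QuotientGroup.mk'_surjective _
  central := by rw [QuotientGroup.ker_mk']
  two := by rw [QuotientGroup.ker_mk']; exact h.2.2.1
  perfect := h.2.1.1.commutator_eq_top

theorem card_center_dvd {K : Type u} [Group K] (h : QsCyc K) {k : ℕ}
    (hc : Nat.card (QuotientGroup.mk' (center K)).ker ≤ 2 ^ k) : Nat.card ↥(center K) ∣ 2 ^ k := by
  rw [QuotientGroup.ker_mk'] at hc
  haveI := h.1
  haveI : Fact (Nat.Prime 2) := ⟨Nat.prime_two⟩
  obtain ⟨n, hn⟩ := IsPGroup.iff_card.1 h.2.2.1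
  rw [hn] at hc ⊢
  exact pow_dvd_pow 2 ((Nat.pow_le_pow_iff_right (by norm_num)).1 hc)

theorem Bd.of_cov {P : (X : Type u) → [Group X] → Prop} (k : ℕ)
    (h : ∀ (X : Type u) [Group X], P X → ∀ (L : Type u) [Group L] (π : L →* X), Finite L → Cov π →
      Nat.card π.ker ≤ 2 ^ k) : Bd.{u} (2 ^ k) P := fun K _ hK hP =>
  card_center_dvd hK (h _ hP K _ hK.1 (cov_of hK))

/-- row `Suz` -/
theorem suz : Bd.{u} 2 (fun X _ => Spor.IsoSuz X) := by
  have h := Bd.of_cov (P := fun X _ => Spor.IsoSuz X) 1 fun X _ hX L _ π _ hc => by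
    obtain ⟨e⟩ := hX
    exact (SuzCov.card_ker_le_two_of_iso e hc).2
  exact h

/-- row `G₂(4)` -/
theorem g24 : Bd.{u} 2 (fun X _ => XG24 X) := by
  have h := Bd.of_cov (P := fun X _ => XG24 X) 1 fun X _ hX L _ π _ hc => by
    obtain ⟨F, _, _, hF, ⟨e⟩⟩ := hX
    exact (GTwoFour.card_ker_le_two (by rw [Nat.card_eq_fintype_card]; exact hF) e hc).2
  exact h

end Cfsg.Agent.OddHalf.D9.MultCov

end

-- merged: Cfsg.Agent.KFacts.MulP.Rows
section

/-!
# The rows `M₁₂`, `J₂`, `M₂₂` of the multiplier tables of D9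
-/

set_option autoImplicit false
set_option linter.style.haveILetI false

namespace Cfsg.Agent.KFacts.MulP.Rows

open Subgroup Cfsg Cfsg.Agent.OddHalf.D9.Cut Cfsg.Agent.OddHalf.D9.MultOf

universe u

theorem dvd_of_le {K : Type u} [Group K] (h : QsCyc K) {n k : ℕ} (hn : n = 2 ^ k)
    (hle : Nat.card ↥(center K) ≤ n) : Nat.card ↥(center K) ∣ n := by
  haveI := h.1
  haveI : Fact (Nat.Prime 2) := ⟨Nat.prime_two⟩
  obtain ⟨m, hm⟩ := IsPGroup.iff_card.1 h.2.2.1
  rw [hm, hn] at hle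
  rw [hm, hn]
  exact pow_dvd_pow 2 ((Nat.pow_le_pow_iff_right (by norm_num)).1 hle)

theorem m12 : Bd.{u} 2 (fun X _ => Spor.IsoM12 X) := fun _ _ hK hP =>
  dvd_of_le hK (k := 1) (by norm_num) (MTwelve.card_le hK.2.1.1.commutator_eq_top _ le_rfl hK.2.2.1 hP)

theorem j2 : Bd.{u} 2 (fun X _ => Spor.IsoJ2 X) := fun _ _ hK hP =>
  dvd_of_le hK (k := 1) (by norm_num) (JTwo.card_le hK.2.1.1.commutator_eq_top _ le_rfl hK.2.2.1 hP)

theorem m22 : Bd.{u} 4 (fun X _ => Spor.IsoM22 X) := fun _ _ hK hP =>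
  dvd_of_le hK (k := 2) (by norm_num) (MTwentyTwo.card_le hK.2.1.1.commutator_eq_top _ le_rfl hK.2.2.1 hP)

end Cfsg.Agent.KFacts.MulP.Rows

end

-- merged: Cfsg.Agent.OddHalf.D9.MultAll.Two
section

/-!
# The rows of `TwoRows` of `MultOf`
-/

set_option autoImplicit false

namespace Cfsg.Agent.OddHalf.D9.MultAll.Two

open Cfsg Cfsg.Agent.OddHalf.D9 Cfsg.Agent.OddHalf.D9.MultOf Cfsg.Agent.OddHalf.D9.Cut

universe u

/-- the missing rows -/
structure Missing : Prop where
  ru : Bd.{u} 2 (fun X _ => Spor.IsoRu X)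

theorem e62 : Bd.{u} 2 (fun X _ => X2E62 X) := fun _ _ hK hP =>
  Cfsg.Agent.KFacts.Mult.TwESixTwo.center_cyc hK.1 hK.2.1 hK.2.2.1 hK.2.2.2 hP

theorem twoRows_of (h : Missing.{u}) : MultOf.TwoRows.{u} where
  u62 := Cfsg.Agent.KFacts.OddLift.RowUSix.u62
  sp62 := Cfsg.Agent.KFacts.OddLift.RowsTwo.sp62
  o82 := Cfsg.Agent.KFacts.OddLift.RowsTwo.o82
  g24 := MultCov.g24
  f42 := FFour.MultTwo.two
  e62 := e62
  m12 := Cfsg.Agent.KFacts.MulP.Rows.m12
  j2 := Cfsg.Agent.KFacts.MulP.Rows.j2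
  hs := Plug.HS.field
  suz := MultCov.suz
  ru := h.ru
  fi22 := Plug.Fi22.field
  co1 := Plug.Co1.field
  b := Plug.Baby.field

end Cfsg.Agent.OddHalf.D9.MultAll.Two

end
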